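import Groth.Agent.BlowUpLib.Basic
import Mathlib

/-!
# Effective Cartier divisors drop the dimension
-/

set_option autoImplicit false

universe u

open CategoryTheory AlgebraicGeometry TopologicalSpace

namespace Groth.Agent.CartierDim

attribute [local instance] specializationOrder

theorem topDim_eq (T : Type u) [TopologicalSpace T] [QuasiSober T] [T0Space T] :
    topologicalKrullDim T = Order.krullDim T := by
  rw [topologicalKrullDim]
  exact Order.krullDim_eq_of_orderIso irreducibleSetEquivPoints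

theorem exists_maximal_generization {T : Type u} [TopologicalSpace T] [QuasiSober T] (z : T) :
    ∃ η : T, η ⤳ z ∧ ∀ y : T, y ⤳ η → η ⤳ y := by
  have hirr : IsIrreducible (irreducibleComponent z) := isIrreducible_irreducibleComponent
  have hcl : IsClosed (irreducibleComponent z) := isClosed_irreducibleComponent
  obtain ⟨η, hη⟩ := QuasiSober.sober hirr hcl
  refine ⟨η, hη.specializes mem_irreducibleComponent, fun y hy => ?_⟩
  have hmax : irreducibleComponent z ∈ irreducibleComponents T :=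
    irreducibleComponent_mem_irreducibleComponents z
  have hle : irreducibleComponent z ⊆ closure {y} := by
    rw [← hη.def]
    exact specializes_iff_closure_subset.1 hy
  have := hmax.2 isIrreducible_singleton.closure hle
  exact hη.specializes (this (subset_closure rfl))

theorem natCast_le_withBot {a b : ℕ} : ((a : ℕ) : WithBot ℕ∞) ≤ (b : WithBot ℕ∞) ↔ a ≤ b := by
  rw [← WithBot.coe_natCast a, ← WithBot.coe_natCast b, WithBot.coe_le_coe]
  exact ENat.coe_le_coe

theorem natCast_lt_withBot {a b : ℕ} : ((a : ℕ) : WithBot ℕ∞) < (b : WithBot ℕ∞) ↔ a < b := by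
  rw [← not_le, natCast_le_withBot, not_le]

theorem krullDim_lt {S : Scheme.{u}} {𝓘 : S.IdealSheafData} (h𝓘 : BlowUp.IsEffCartierIdeal 𝓘) (U : S.Opens)
    (d : ↥(𝓘.subschemeι ⁻¹ᵁ U)) (hfin : topologicalKrullDim (U : Set ↥S) ≠ ⊤) :
    topologicalKrullDim ((𝓘.subschemeι ⁻¹ᵁ U : 𝓘.subscheme.Opens) : Set ↥𝓘.subscheme) <
      topologicalKrullDim (U : Set ↥S) := by
  let P := (𝓘.subschemeι ⁻¹ᵁ U).toScheme
  let V := U.toScheme
  show topologicalKrullDim ↥P < topologicalKrullDim ↥V
  replace hfin : topologicalKrullDim ↥V ≠ ⊤ := hfin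
  rw [topDim_eq] at hfin
  rw [topDim_eq ↥P, topDim_eq ↥V]
  let φ : ↥P → ↥V := fun x => ⟨𝓘.subschemeι.base x.1, x.2⟩
  have hφ : Topology.IsInducing φ := by
    refine (Topology.IsInducing.subtypeVal).of_comp_iff.1 ?_
    exact 𝓘.subschemeι.isEmbedding.isInducing.comp Topology.IsInducing.subtypeVal
  have hmono : StrictMono φ := fun a b hab =>
    ⟨hφ.specializes_iff.2 hab.le, fun h => hab.not_ge (hφ.specializes_iff.1 h)⟩
  have hP : Nonempty ↥P := ⟨d⟩
  have hext : ∀ l : LTSeries ↥P, ((l.length + 1 : ℕ) : WithBot ℕ∞) ≤ Order.krullDim ↥V := by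
    intro l
    obtain ⟨η, hη, hmax⟩ := exists_maximal_generization (φ l.last)
    have hout : η.1 ∉ 𝓘.support := BlowUpLib.notMem_support_of_maximalPt h𝓘 fun y hy => by
      have hyU : y ∈ U := hy.mem_open U.isOpen η.2
      have h1 : (⟨y, hyU⟩ : ↥V) ⤳ η := subtype_specializes_iff _ _ |>.2 hy
      exact (hy.antisymm (subtype_specializes_iff _ _ |>.1 (hmax _ h1))).eq
    have hlt : φ l.last < η := ⟨hη, fun h => hout (by
      have : η.1 = (φ l.last).1 :=
        (subtype_specializes_iff _ _ |>.1 hη).antisymm (subtype_specializes_iff _ _ |>.1 h) |>.eq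
      rw [this]
      exact 𝓘.range_subschemeι.subset ⟨_, rfl⟩)⟩
    exact Order.LTSeries.length_le_krullDim ((l.map φ hmono).snoc η hlt)
  obtain ⟨n, hn⟩ : ∃ n : ℕ, Order.krullDim ↥V = n := by
    have hV : Nonempty ↥V := ⟨φ d⟩
    have h0 : (0 : WithBot ℕ∞) ≤ Order.krullDim ↥V := Order.krullDim_nonneg
    match hk : Order.krullDim ↥V with
    | ⊥ => exact absurd (hk ▸ h0) (not_le.2 (WithBot.bot_lt_coe 0))
    | ((⊤ : ℕ∞) : WithBot ℕ∞) => exact absurd hk (fun h => hfin (h.trans rfl))
    | ((n : ℕ) : ℕ∞) => exact ⟨n, rfl⟩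
  rw [hn]
  have hbound : ∀ l : LTSeries ↥P, (l.length : ℕ) + 1 ≤ n := fun l => by
    have := hext l
    rw [hn] at this
    exact natCast_le_withBot.mp this
  have h1 : Order.krullDim ↥P ≤ ((n - 1 : ℕ) : WithBot ℕ∞) := iSup_le fun l => by
    have := hbound l
    exact natCast_le_withBot.mpr ((show l.length ≤ n - 1 by omega))
  have hn0 : 1 ≤ n := by
    have := hbound (RelSeries.singleton _ ⟨d.1, d.2⟩)
    omega
  exact lt_of_le_of_lt h1 (natCast_lt_withBot.mpr (show n - 1 < n by omega))

end Groth.Agent.CartierDim
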